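import Mathlib
import Cfsg.Agent.Lib.Helper69.BG40.Defs
import Cfsg.Agent.Lib.Helper95.BG.S1428KS
import Cfsg.Agent.Lib.Helper74.BG.Tools
import Cfsg.Agent.Lib.Helper35.BG.S1355Core
import Cfsg.Agent.Lib.Helper57.WieA
import Cfsg.Agent.Lib.Helper65.BG.S1537Core
import Cfsg.Agent.Lib.Helper67.BG.FitUtil
import Cfsg.Agent.Lib.Helper54.Stability
import Cfsg.Agent.Lib.Helper24.PRank

/-!
# S1440 (BG 15.8), package PKC: `M_σ` is nilpotent and `M_F = M_σ`
-/

set_option autoImplicit false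
set_option linter.style.haveILetI false

namespace Cfsg.Agent.Lib.Helper95.BG40

open Cfsg Cfsg.Agent.Lib.Helper69.BG40 Cfsg.Agent.Lib.Helper95.BG28

universe u

theorem pkC : PKC.{u} := by
  intro G _ _ hG h1350 h1414 M hM p hpβ x D hL
  classical
  obtain ⟨hβHall, -, -, ⟨H0, hH0, hH0nil⟩, -⟩ := h1414 M hM
  have hpp := hL.hp
  have hxF := hL.hxF
  have hxM : x ∈ M := Cfsg.Agent.Lib.Helper67.BG.fittingOf_le M hxF
  have hFnil : Group.IsNilpotent ↥(fittingOf M) :=
    Cfsg.Agent.Lib.Helper67.BG.fittingOf_isNilpotent M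
  -- Step 1: `M_β` centralizes `x`
  have hβC : ∀ b ∈ piCoreOf (beta M) M, b * x = x * b := by
    intro b hb
    have hbM : b ∈ M := betaCore_le M hb
    obtain ⟨c, hcdef⟩ : ∃ c : G, c = x * b * x⁻¹ * b⁻¹ := ⟨_, rfl⟩
    have hcβ : c ∈ piCoreOf (beta M) M := by
      have h1 : x * b * x⁻¹ ∈ piCoreOf (beta M) M :=
        (Subgroup.mem_normalizer_iff.mp (le_normalizer_betaCore M hxM) b).mp hb
      rw [hcdef]
      exact Subgroup.mul_mem _ h1 (Subgroup.inv_mem _ hb)
    have hy : b * x⁻¹ * b⁻¹ ∈ fittingOf M :=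
      Cfsg.Agent.Lib.Helper65.BG91.fittingOf_conj_mem M hbM (Subgroup.inv_mem _ hxF)
    have hx1 : x ∈ Cfsg.Agent.Lib.Helper57.Wie.sylG (fittingOf M) p :=
      Cfsg.Agent.Lib.Helper57.Wie.mem_sylG_of_orderOf hFnil hpp hxF (k := 1)
        (by rw [hL.hxo, pow_one])
    have hy1 : b * x⁻¹ * b⁻¹ ∈ Cfsg.Agent.Lib.Helper57.Wie.sylG (fittingOf M) p := by
      refine Cfsg.Agent.Lib.Helper57.Wie.mem_sylG_of_orderOf hFnil hpp hy (k := 1) ?_
      have e : b * x⁻¹ * b⁻¹ = MulAut.conj b x⁻¹ := by simp [MulAut.conj_apply]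
      rw [e, MulEquiv.orderOf_eq, orderOf_inv, hL.hxo, pow_one]
    have hc1 : c ∈ Cfsg.Agent.Lib.Helper57.Wie.sylG (fittingOf M) p := by
      have e : c = x * (b * x⁻¹ * b⁻¹) := by rw [hcdef]; group
      rw [e]
      exact Subgroup.mul_mem _ hx1 hy1
    obtain ⟨k, hk⟩ := (Cfsg.Agent.Lib.Helper57.Wie.sylG_isPGroup (fittingOf M) p) ⟨c, hc1⟩
    have hck : c ^ p ^ k = 1 := by
      have := congrArg Subtype.val hk
      simpa using this
    have hcop : (orderOf c).Coprime p := by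
      have h1 : orderOf c ∣ Nat.card ↥(piCoreOf (beta M) M) :=
        Subgroup.orderOf_dvd_natCard _ hcβ
      have h2 : (Nat.card ↥(piCoreOf (beta M) M)).Coprime p :=
        (Nat.Coprime.symm ((Nat.Prime.coprime_iff_not_dvd hpp).mpr
          (not_dvd_card_betaCore M hpp hpβ)))
      exact Nat.Coprime.coprime_dvd_left h1 h2
    have hc : c = 1 := Cfsg.Agent.Lib.Helper54.eq_one_of_coprime_of_pow_eq_one hcop hck
    rw [hcdef] at hc
    have : x * b = (x * b * x⁻¹ * b⁻¹) * (b * x) := by group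
    rw [this, hc, one_mul]
  have hβD : piCoreOf (beta M) M ≤ D := by
    intro b hb
    refine hL.hCD ⟨betaCore_le M hb, Subgroup.mem_centralizer_iff.mpr ?_⟩
    intro y hy
    rw [Set.mem_singleton_iff] at hy
    rw [hy]
    exact (hβC b hb).symm
  -- Step 2: `β(M) = ∅`
  have hβe : ∀ q : ℕ, q ∉ beta M := by
    intro q hq
    have hqp : q.Prime := hq.1.1
    have h2 : ¬ PRankLE q 2 ↥M := hq.1.2
    rw [Cfsg.Agent.Lib.Helper24.pRankLE_subgroup_iff] at h2
    push Not at h2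
    obtain ⟨A, hAM, hcomm, hexp, hcard⟩ := h2
    have hAq : IsPGroup q ↥A := by
      intro a
      refine ⟨1, ?_⟩
      apply Subtype.ext
      simpa using hexp a a.2
    have hAβ : A ≤ piCoreOf (beta M) M := by
      refine Cfsg.Agent.Lib.Helper74.BG.le_of_isPiHallOf_of_normal hβHall
        (le_normalizer_betaCore M) hAM ?_
      intro r hr hdvd
      haveI : Fact q.Prime := ⟨hqp⟩
      obtain ⟨n, hn⟩ := (IsPGroup.iff_card).mp hAq
      rw [hn] at hdvd
      have : r = q := (Nat.prime_dvd_prime_iff_eq hr hqp).mp (hr.dvd_of_dvd_pow hdvd)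
      rw [this]; exact hq
    have h3 := hL.hrk q hqp A (hAβ.trans hβD)
      ⟨⟨⟨fun a b => Subtype.ext (hcomm a a.2 b b.2)⟩⟩, hexp⟩
    omega
  -- Step 3: `M_σ` is nilpotent
  have hH0eq : H0 = sigmaCore M := by
    apply le_antisymm hH0.1
    rw [← Subgroup.relIndex_eq_one]
    rw [Nat.eq_one_iff_not_exists_prime_dvd]
    intro r hr hdvd
    exact hH0.2.2 r hr ⟨hr, hβe r⟩ hdvd
  have hσnil : Group.IsNilpotent ↥(sigmaCore M) := hH0eq ▸ hH0nil
  refine ⟨hσnil, le_antisymm (Cfsg.Agent.Lib.Helper35.BG.fittingHallOf_le_sigmaCore hG M hM) ?_⟩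
  -- Step 4: `M_σ ≤ M_F`
  have hHall := (h1350 M hM).1
  have hσnil' : Group.IsNilpotent ↥(piCore (sigma M) ↥M) := by
    haveI : Group.IsNilpotent ↥((piCore (sigma M) ↥M).map M.subtype) := hσnil
    exact Group.nilpotent_of_mulEquiv
      ((piCore (sigma M) ↥M).equivMapOfInjective M.subtype M.subtype_injective).symm
  unfold sigmaCore fittingHallOf
  apply Subgroup.map_mono
  unfold fittingHall
  refine le_sSup ⟨inferInstance, ?_, ?_⟩
  · exact hσnil'
  · have hcard : Nat.card ↥(piCore (sigma M) ↥M) = Nat.card ↥(sigmaCore M) := by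
      unfold sigmaCore
      exact (Subgroup.card_map_of_injective M.subtype_injective).symm
    have hidx : (piCore (sigma M) ↥M).index = (sigmaCore M).relIndex M := by
      unfold sigmaCore Subgroup.relIndex Subgroup.subgroupOf
      rw [Subgroup.comap_map_eq_self_of_injective M.subtype_injective]
    rw [hcard, hidx]
    by_contra hnc
    obtain ⟨r, hr, h1, h2⟩ := Nat.Prime.not_coprime_iff_dvd.mp hnc
    exact hHall.2.2 r hr (hHall.2.1 r hr h1) h2

end Cfsg.Agent.Lib.Helper95.BG40
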